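import Cfsg.Agent.H41.McLTwo.Ords_m3
import Cfsg.Agent.H41.McLTwo.Pack
import Cfsg.Agent.Prune
set_option linter.all false
prune_inst 0x7f00000000000000000000000000000000000000000000000000000000000000000000000000000000000000000000000000000000000000000000000000000000000000000000000000000000000000003fffffffffffffffffffffffffffbeffbdffffffff
open scoped Cfsg.Agent.FastGrp

/-!
# The row `McL` of S4820 (`p = 5`)

17 classes of 5-regular elements, 7 classes of elements of order divisible by 5, 5 characters of 5-defect zero; `k(N(P)/P) = 12`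
is an input.
-/

set_option autoImplicit false
set_option maxRecDepth 100000

namespace Cfsg.Agent.H359.CT.McL

open Cfsg Equiv Subgroup Cfsg.Agent.H359.CT Cfsg.Agent.H447.CTab Cfsg.Agent.McLType.Gens
open Cfsg.Agent.H41.McLTwo (fac_iff orderOf_isConj)
open Cfsg.Agent.H41.McLTwo.Ords (os order_xs)

universe u

/-- an isomorphism with the model -/
theorem exists_e {G : Type u} [Group G] (h : Spor.IsoMcL G) : Nonempty (G ≃* ↥K0) := by
  obtain ⟨f⟩ := h
  obtain ⟨f'⟩ := iso_K0
  exact ⟨f.trans f'.symm⟩

section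

variable {G : Type u} [Group G] [Finite G] (e : G ≃* ↥K0)

theorem order_x (i : Fin 24) : orderOf ((clT e).x i) = os i := by
  rw [← order_xs i]
  exact orderOf_injective e.symm.toMonoidHom e.symm.injective (xs i)

/-- counting of classes -/
theorem card_classes_eq (P : ConjClasses G → Prop) (p : Fin 24 → Bool)
    (h : ∀ i, P (ConjClasses.mk ((clT e).x i)) ↔ p i = true) :
    Nat.card {c : ConjClasses G // P c} = (Finset.univ.filter fun i => p i = true).card := by
  classical
  rw [← Fintype.card_subtype, ← Nat.card_eq_fintype_card]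
  symm
  refine Nat.card_congr (Equiv.ofBijective (fun i => (⟨ConjClasses.mk ((clT e).x i.1), (h i.1).2 i.2⟩ :
    {c : ConjClasses G // P c})) ⟨?_, ?_⟩)
  · intro i j hij
    exact Subtype.ext ((clT e).inj _ _ (ConjClasses.mk_eq_mk_iff_isConj.1 (congrArg Subtype.val hij)))
  · rintro ⟨c, hc⟩
    obtain ⟨g, rfl⟩ := ConjClasses.mk_surjective c
    obtain ⟨i, hi⟩ := (clT e).cover g
    have h1 := ConjClasses.mk_eq_mk_iff_isConj.2 hi
    exact ⟨⟨i, (h i).1 (by rw [h1]; exact hc)⟩, Subtype.ext h1⟩

theorem order_out (i : Fin 24) : orderOf (Quotient.out (ConjClasses.mk ((clT e).x i))) = os i := by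
  rw [← order_x e]
  refine orderOf_isConj (ConjClasses.mk_eq_mk_iff_isConj.1 ?_)
  exact Quotient.out_eq (ConjClasses.mk ((clT e).x i))

include e in
theorem card_sing : Nat.card (H34.TI.Sing 5 G) = 7 := by
  have h := card_classes_eq e (fun c => 5 ∣ orderOf (Quotient.out c)) (fun i => (5 ∣ os i : Bool)) (fun i => by
    rw [order_out, decide_eq_true_iff])
  refine h.trans ?_
  decide +kernel

include e in
theorem fac5 : (Nat.card G).factorization 5 = 3 := by
  have h := card_G e
  have hn : Nat.card G ≠ 0 := Nat.card_pos.ne'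
  have h1 := Nat.prime_five.pow_dvd_iff_le_factorization (k := 3) hn
  have h2 := Nat.prime_five.pow_dvd_iff_le_factorization (k := 4) hn
  rw [h] at h1 h2 ⊢
  norm_num at h1 h2
  omega

/-- the degrees -/
def dR (a : Fin 12) : ℕ := [1, 22, 231, 252, 1750, 3520, 3520, 4500, 4752, 5103, 5544, 9625].getD a 0
def dP (b : Fin 6) : ℕ := [770, 896, 8019, 8250, 9856, 10395].getD b 0

theorem hdR : ∀ a : Fin 12, (R a (rc 0)).toNat = dR a := by decide +kernel
theorem hdP : ∀ b : Fin 6, (P b (rc 0)).toNat / 2 = dP b := by decide +kernel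
theorem n625R : ∀ a, ¬ 625 ∣ dR a := by decide +kernel
theorem n625P : ∀ a, ¬ 625 ∣ dP a := by decide +kernel

include e in
/-- 5 characters of 5-defect zero: 1750, 4500, 9625, 8250 (twice) -/
theorem card_dz : Nat.card {χ : IrrCharacter G // H34.TI.IsDz 5 χ} = 5 := by
  have h := (tab e).count (fun n => n.factorization 5 = 3) (fun a => (125 ∣ dR a : Bool)) (fun b => (125 ∣ dP b : Bool))
    (fun a => by
      change (R a (rc 0)).toNat.factorization 5 = 3 ↔ _
      rw [hdR, fac_iff (n625R a), decide_eq_true_iff])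
    (fun b => by
      change ((P b (rc 0)).toNat / 2).factorization 5 = 3 ↔ _
      rw [hdP, fac_iff (n625P b), decide_eq_true_iff])
  have h2 : (Finset.univ.filter fun a => (125 ∣ dR a : Bool) = true).card +
      2 * (Finset.univ.filter fun b => (125 ∣ dP b : Bool) = true).card = 5 := by decide +kernel
  refine Eq.trans ?_ (h.trans h2)
  refine Nat.card_congr (Equiv.subtypeEquivRight fun χ => ?_)
  unfold H34.TI.IsDz
  rw [fac5 e]

include e in
/-- **The row `McL`** -/
theorem cnt_of (hLoc : H34.TI.LocGen.{u})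
    (hK : ∀ P : Sylow 5 G, H34.TI.IsTI (P : Subgroup G) →
      Nat.card (ConjClasses ((Subgroup.normalizer ((P : Subgroup G) : Set G)) ⧸
        ((P : Subgroup G).subgroupOf (Subgroup.normalizer ((P : Subgroup G) : Set G))))) = 12) :
    H34.TI.Cnt 5 G := by
  intro P hP
  have : Fact (Nat.Prime 5) := ⟨Nat.prime_five⟩
  rw [hLoc 5 G P hP, hK P hP, card_sing e, card_dz e, (clT e).card_classes]

end

/-- **The row `McL`** -/
theorem cnt_isoMcL {G : Type u} [Group G] [Finite G] (h : Spor.IsoMcL G) (hLoc : H34.TI.LocGen.{u})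
    (hK : ∀ P : Sylow 5 G, H34.TI.IsTI (P : Subgroup G) →
      Nat.card (ConjClasses ((Subgroup.normalizer ((P : Subgroup G) : Set G)) ⧸
        ((P : Subgroup G).subgroupOf (Subgroup.normalizer ((P : Subgroup G) : Set G))))) = 12) :
    H34.TI.Cnt 5 G := by
  obtain ⟨e⟩ := exists_e h
  exact cnt_of e hLoc hK

end Cfsg.Agent.H359.CT.McL
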